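import Mathlib.RingTheory.ZariskisMainTheorem
import Mathlib.RingTheory.Polynomial.ScaleRoots
import Mathlib.RingTheory.Localization.Integral
import Mathlib.RingTheory.Ideal.GoingDown
import Mathlib.RingTheory.Flat.Localization
import Mathlib.FieldTheory.IsAlgClosed.Basic
import Mathlib.RingTheory.FinitePresentation

/-!
# Rings in which every monic polynomial has a root

Over a local domain of this kind every flat quasi-finite algebra with non-empty closed fibre has a
section.
-/

open Polynomial TensorProduct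

universe u v w

namespace Groth.Agent.AbsClosure4

/-- Every monic polynomial of positive degree has a root. -/
def MonicRoots (D : Type*) [CommRing D] : Prop :=
  ∀ P : D[X], P.Monic → P.natDegree ≠ 0 → ∃ r, P.IsRoot r

theorem MonicRoots.of_isLocalization {W : Type*} [CommRing W] (h : MonicRoots W) (M : Submonoid W)
    (D : Type*) [CommRing D] [Algebra W D] [IsLocalization M D] : MonicRoots D := by
  intro P hP hn
  obtain ⟨s, hs⟩ := IsLocalization.exist_integer_multiples M P.support P.coeff
  set c := algebraMap W D (s : W)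
  have hc : IsUnit c := IsLocalization.map_units D s
  have hlift : P.scaleRoots c ∈ Polynomial.lifts (algebraMap W D) := by
    rw [Polynomial.lifts_iff_coeff_lifts]
    intro i
    rw [Polynomial.coeff_scaleRoots]
    rcases lt_trichotomy i P.natDegree with hi | hi | hi
    · by_cases hi0 : P.coeff i = 0
      · exact ⟨0, by rw [hi0, zero_mul, map_zero]⟩
      · obtain ⟨a, ha⟩ := hs i (Polynomial.mem_support_iff.2 hi0)
        refine ⟨a * (s : W) ^ (P.natDegree - i - 1), ?_⟩
        rw [map_mul, map_pow, ha, Algebra.smul_def]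
        obtain ⟨k, hk⟩ : ∃ k, P.natDegree - i = k + 1 := ⟨P.natDegree - i - 1, by omega⟩
        rw [hk, Nat.add_sub_cancel]
        ring
    · exact ⟨1, by rw [hi, hP.coeff_natDegree, map_one, Nat.sub_self, pow_zero, one_mul]⟩
    · exact ⟨0, by rw [Polynomial.coeff_eq_zero_of_natDegree_lt hi, zero_mul, map_zero]⟩
  cases subsingleton_or_nontrivial D
  · exact ⟨0, Subsingleton.elim _ _⟩
  obtain ⟨Q, hQ, hdeg, hQm⟩ := Polynomial.lifts_and_degree_eq_and_monic hlift
    ((Polynomial.monic_scaleRoots_iff c).2 hP)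
  obtain ⟨r, hr⟩ := h Q hQm (by
    rw [Polynomial.natDegree_eq_of_degree_eq hdeg, Polynomial.natDegree_scaleRoots]; exact hn)
  refine ⟨algebraMap W D r * ↑hc.unit⁻¹, ?_⟩
  have h0 : (P.scaleRoots c).eval (algebraMap W D r) = 0 := by
    rw [← hQ, Polynomial.eval_map_algebraMap, Polynomial.aeval_algebraMap_apply,
      Polynomial.coe_aeval_eq_eval, hr.eq_zero, map_zero]
  have := Polynomial.scaleRoots_eval_mul P (algebraMap W D r * ↑hc.unit⁻¹) c
  rw [show c * (algebraMap W D r * ↑hc.unit⁻¹) = algebraMap W D r by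
    rw [mul_left_comm, IsUnit.mul_val_inv, mul_one], h0] at this
  exact (hc.pow _).mul_right_eq_zero.1 this.symm

/-- In a domain over a ring with roots of monic polynomials, integral elements are in the image. -/
theorem MonicRoots.mem_range_of_isIntegral {D L : Type*} [CommRing D] [CommRing L] [IsDomain L]
    [Algebra D L] (h : MonicRoots D) {x : L} (hx : IsIntegral D x) : x ∈ (algebraMap D L).range := by
  have := (algebraMap D L).domain_nontrivial
  obtain ⟨P, hP, hPx⟩ := hx
  rw [← Polynomial.aeval_def] at hPx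
  induction hn : P.natDegree using Nat.strong_induction_on generalizing P with
  | _ n ih =>
    subst hn
    by_cases h0 : P.natDegree = 0
    · rw [Polynomial.eq_one_of_monic_natDegree_zero hP h0, map_one] at hPx
      exact absurd hPx one_ne_zero
    · obtain ⟨r, hr⟩ := h P hP h0
      obtain ⟨Q, hQ⟩ := Polynomial.dvd_iff_isRoot.2 hr
      rw [hQ, map_mul, map_sub, Polynomial.aeval_X, Polynomial.aeval_C, mul_eq_zero] at hPx
      rcases hPx with hPx | hPx
      · exact ⟨r, (sub_eq_zero.1 hPx).symm⟩
      · have hQm : Q.Monic := (Polynomial.monic_X_sub_C r).of_mul_monic_left (hQ ▸ hP)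
        refine ih Q.natDegree ?_ Q hQm hPx rfl
        rw [hQ, Polynomial.Monic.natDegree_mul' (Polynomial.monic_X_sub_C r) hQm.ne_zero,
          Polynomial.natDegree_X_sub_C]
        omega

/-- A flat quasi-finite algebra over a local domain with roots of monic polynomials and non-empty
closed fibre has a section. -/
theorem exists_section {D : Type u} {C : Type u} [CommRing D] [IsLocalRing D] [IsDomain D] [CommRing C]
    [Algebra D C] [Module.Flat D C] [Algebra.FiniteType D C] [Algebra.QuasiFinite D C]
    (h : MonicRoots D) (q : Ideal C) [q.IsPrime] [hq : q.LiesOver (IsLocalRing.maximalIdeal D)] :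
    Nonempty (C →ₐ[D] D) := by
  have : Algebra.HasGoingDown D C := Algebra.HasGoingDown.of_flat
  obtain ⟨q₀, hq₀le, hq₀p, hq₀over⟩ := Ideal.exists_ideal_le_liesOver_of_le q
    (p := (⊥ : Ideal D)) (q := IsLocalRing.maximalIdeal D) bot_le
  have hinj : Function.Injective (algebraMap D (C ⧸ q₀)) := by
    rw [injective_iff_map_eq_zero]
    intro d hd
    rw [IsScalarTower.algebraMap_apply D C (C ⧸ q₀), Ideal.Quotient.algebraMap_eq,
      Ideal.Quotient.eq_zero_iff_mem] at hd
    have : d ∈ q₀.comap (algebraMap D C) := hd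
    rwa [← Ideal.under_def, ← hq₀over.over, Ideal.mem_bot] at this
  obtain ⟨r, hrq, hri, hall⟩ := (Algebra.zariskisMainProperty_iff (R := D) (p := q)).1
    (Algebra.ZariskisMainProperty.of_finiteType q)
  obtain ⟨d, hd⟩ := h.mem_range_of_isIntegral (hri.map (IsScalarTower.toAlgHom D C (C ⧸ q₀)))
  have hdunit : IsUnit d := by
    refine IsLocalRing.notMem_maximalIdeal.1 fun hdm => hrq ?_
    have h1 : algebraMap D C d ∈ q := by
      rw [hq.over] at hdm; exact hdm
    have h2 : algebraMap D C d - r ∈ q₀ := by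
      rw [← Ideal.Quotient.eq_zero_iff_mem, map_sub, sub_eq_zero]
      exact hd
    simpa using q.sub_mem h1 (hq₀le h2)
  have hsurj : Function.Surjective (algebraMap D (C ⧸ q₀)) := by
    intro x
    obtain ⟨x, rfl⟩ := Ideal.Quotient.mk_surjective x
    obtain ⟨m, hm⟩ := hall x
    obtain ⟨e, he⟩ := h.mem_range_of_isIntegral (hm.map (IsScalarTower.toAlgHom D C (C ⧸ q₀)))
    obtain ⟨w, hw⟩ := hdunit.pow m
    refine ⟨↑w⁻¹ * e, ?_⟩
    rw [map_mul, he]
    change algebraMap D (C ⧸ q₀) ↑w⁻¹ * Ideal.Quotient.mk q₀ (r ^ m * x) = _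
    rw [map_mul, map_pow, show Ideal.Quotient.mk q₀ r = algebraMap D (C ⧸ q₀) d from hd.symm,
      ← map_pow, ← hw, ← mul_assoc, ← map_mul, Units.inv_mul, map_one, one_mul]
  exact ⟨(AlgEquiv.ofBijective (Algebra.ofId D (C ⧸ q₀)) ⟨hinj, hsurj⟩).symm.toAlgHom.comp
    (IsScalarTower.toAlgHom D C (C ⧸ q₀))⟩

/-- A homomorphism from a finitely presented algebra to a localisation at a prime spreads out. -/
theorem exists_algHom_away {W : Type u} {B : Type u} [CommRing W] [CommRing B] [Algebra W B]
    [Algebra.FinitePresentation W B] (P : Ideal W) [P.IsPrime] (σ : B →ₐ[W] Localization.AtPrime P) :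
    ∃ g ∉ P, Nonempty (B →ₐ[W] Localization.Away g) := by
  classical
  obtain ⟨n, π, hπ, hker⟩ := Algebra.FinitePresentation.out (R := W) (A := B)
  obtain ⟨F, hF⟩ := hker
  obtain ⟨s, hs⟩ := IsLocalization.exist_integer_multiples_of_finite P.primeCompl
    (fun i => σ (π (MvPolynomial.X i)))
  choose c hc using hs
  let lam : ∀ g : W, (s : W) ∣ g → MvPolynomial (Fin n) W →ₐ[W] Localization.Away g := fun g hg =>
    MvPolynomial.aeval fun i => algebraMap W (Localization.Away g) (c i) *
      ↑(isUnit_of_dvd_unit (map_dvd (algebraMap W (Localization.Away g)) hg)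
        (IsLocalization.Away.algebraMap_isUnit g)).unit⁻¹
  let lev := lam s dvd_rfl
  have hs' : ∀ y : Submonoid.powers (s : W), IsUnit (algebraMap W (Localization.AtPrime P) y) := by
    rintro ⟨_, k, rfl⟩
    simp only [map_pow]
    exact (IsLocalization.map_units _ s).pow k
  let γ : Localization.Away (s : W) →ₐ[W] Localization.AtPrime P :=
    IsLocalization.liftAlgHom (M := Submonoid.powers (s : W)) (f := Algebra.ofId W _) hs'
  have hcomp : γ.comp lev = σ.comp π := by
    refine MvPolynomial.algHom_ext fun i => ?_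
    simp only [AlgHom.comp_apply, lev, lam, MvPolynomial.aeval_X]
    refine (IsLocalization.map_units _ s).mul_left_cancel ?_
    rw [← Algebra.smul_def (s : W) (σ _), ← hc i, ← γ.commutes (c i), ← γ.commutes (s : W), ← map_mul,
      mul_left_comm, IsUnit.mul_val_inv, mul_one]
  have hzero : ∀ f ∈ F, ∃ v : P.primeCompl, ∀ (g : W) (hg : (s : W) ∣ g), (v : W) ∣ g →
      lam g hg f = 0 := by
    intro f hf
    have h0 : γ (lev f) = 0 := by
      rw [← AlgHom.comp_apply, hcomp, AlgHom.comp_apply,
        show π f = 0 from (RingHom.mem_ker (f := π.toRingHom)).1 (by rw [← hF]; exact Ideal.subset_span hf), map_zero]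
    obtain ⟨⟨a, b⟩, hab⟩ := IsLocalization.surj (Submonoid.powers (s : W)) (lev f)
    have ha : algebraMap W (Localization.AtPrime P) a = 0 := by
      rw [← γ.commutes, ← hab, map_mul, h0, zero_mul]
    obtain ⟨v, hv⟩ := (IsLocalization.map_eq_zero_iff P.primeCompl _ a).1 ha
    refine ⟨v, fun g hg hvg => ?_⟩
    have hsu : ∀ y : Submonoid.powers (s : W), IsUnit (algebraMap W (Localization.Away g) y) := by
      rintro ⟨_, k, rfl⟩
      simp only [map_pow]
      exact (isUnit_of_dvd_unit (map_dvd (algebraMap W (Localization.Away g)) hg)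
        (IsLocalization.Away.algebraMap_isUnit g)).pow k
    let δ : Localization.Away (s : W) →ₐ[W] Localization.Away g :=
      IsLocalization.liftAlgHom (M := Submonoid.powers (s : W)) (f := Algebra.ofId W _) hsu
    have hδ : δ.comp lev = lam g hg := by
      refine MvPolynomial.algHom_ext fun i => ?_
      simp only [AlgHom.comp_apply, lev, lam, MvPolynomial.aeval_X]
      refine (isUnit_of_dvd_unit (map_dvd (algebraMap W (Localization.Away g)) hg)
        (IsLocalization.Away.algebraMap_isUnit g)).mul_left_cancel ?_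
      rw [map_mul, δ.commutes]
      nth_rw 1 [← δ.commutes (s : W)]
      rw [mul_left_comm, ← map_mul, IsUnit.mul_val_inv, map_one, mul_one,
        mul_left_comm, IsUnit.mul_val_inv, mul_one]
    rw [← hδ, AlgHom.comp_apply]
    have hva : algebraMap W (Localization.Away g) a = 0 := by
      refine (isUnit_of_dvd_unit (map_dvd (algebraMap W (Localization.Away g)) hvg)
        (IsLocalization.Away.algebraMap_isUnit g)).mul_right_eq_zero.1 ?_
      rw [← map_mul, hv, map_zero]
    have := congrArg δ hab
    rw [map_mul, δ.commutes, δ.commutes, hva] at this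
    exact (hsu b).mul_left_eq_zero.1 this
  choose v hv using hzero
  let g : W := s * ∏ f ∈ F.attach, (v f.1 f.2 : W)
  have hg : g ∉ P := by
    intro hgP
    rcases (‹P.IsPrime›).mem_or_mem hgP with h | h
    · exact s.2 h
    · obtain ⟨f, -, hf⟩ := (Ideal.IsPrime.prod_mem_iff (p := P)).1 h
      exact (v f.1 f.2).2 hf
  have hsg : (s : W) ∣ g := Dvd.intro _ rfl
  refine ⟨g, hg, ⟨AlgHom.liftOfSurjective (f := π) (g := lam g hsg) hπ ?_⟩⟩
  rw [← hF, Ideal.span_le]
  intro f hf
  refine hv f hf g hsg (Dvd.dvd.mul_left ?_ _)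
  exact Finset.dvd_prod_of_mem (fun f : {x // x ∈ F} => (v f.1 f.2 : W)) (Finset.mem_attach _ ⟨f, hf⟩)

section prod

variable {I : Type v} {L : I → Type w} [∀ i, Field (L i)] {R : Type u} [CommRing R] [Algebra R (∀ i, L i)]

theorem monicRoots_integralClosure [∀ i, IsAlgClosed (L i)] :
    MonicRoots (integralClosure R (∀ i, L i)) := by
  intro P hP hn
  let φ := algebraMap (integralClosure R (∀ i, L i)) (∀ i, L i)
  have hroot : ∀ i, ∃ z : L i, (P.map ((Pi.evalRingHom L i).comp φ)).IsRoot z := fun i => by
    refine IsAlgClosed.exists_root _ fun hdeg => hn ?_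
    rw [← hP.natDegree_map ((Pi.evalRingHom L i).comp φ)]
    exact Polynomial.natDegree_eq_zero_iff_degree_le_zero.2 hdeg.le
  choose z hz using hroot
  have hPz : aeval z P = 0 := funext fun i => by
    rw [Pi.zero_apply, ← (hz i).eq_zero, Polynomial.eval_map, Polynomial.aeval_def]
    exact Polynomial.hom_eval₂ P φ (Pi.evalRingHom L i) z
  have hzint : IsIntegral R z := isIntegral_trans z ⟨P, hP, hPz⟩
  refine ⟨⟨z, hzint⟩, Subtype.ext ?_⟩
  rw [Polynomial.aeval_def] at hPz
  exact (Polynomial.hom_eval₂ P (RingHom.id _) φ ⟨z, hzint⟩).trans hPz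

theorem isDomain_atPrime_integralClosure (P : Ideal (integralClosure R (∀ i, L i))) [P.IsPrime] :
    IsDomain (Localization.AtPrime P) := by
  classical
  have : NoZeroDivisors (Localization.AtPrime P) := ⟨fun {x y} hxy => by
    obtain ⟨a, m, rfl⟩ := IsLocalization.exists_mk'_eq P.primeCompl x
    obtain ⟨b, l, rfl⟩ := IsLocalization.exists_mk'_eq P.primeCompl y
    rw [← IsLocalization.mk'_mul, IsLocalization.mk'_eq_zero_iff] at hxy
    obtain ⟨c, hc⟩ := hxy
    have heint : IsIntegral R (fun i => if a.1 i = 0 then (0 : L i) else 1) := by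
      refine ⟨X ^ 2 - X, Polynomial.monic_X_pow_sub (Polynomial.degree_X_le.trans_lt (by norm_num)), funext fun i => ?_⟩
      by_cases h : a.1 i = 0 <;> simp [h]
    let e : integralClosure R (∀ i, L i) := ⟨_, heint⟩
    by_cases he : e ∈ P
    · refine Or.inl ((IsLocalization.mk'_eq_zero_iff _ _).2 ⟨⟨1 - e, fun h => ?_⟩, ?_⟩)
      · exact ‹P.IsPrime›.ne_top ((Ideal.eq_top_iff_one _).2 (by simpa using P.add_mem h he))
      · refine Subtype.ext (funext fun i => ?_)
        by_cases h : a.1 i = 0 <;> simp [e, h]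
    · refine Or.inr ((IsLocalization.mk'_eq_zero_iff _ _).2 ⟨⟨e * c, ?_⟩, ?_⟩)
      · exact fun h => (‹P.IsPrime›.mem_or_mem h).elim he c.2
      · refine Subtype.ext (funext fun i => ?_)
        have := congrArg (fun z : integralClosure R (∀ i, L i) => z.1 i) hc
        by_cases h : a.1 i = 0
        · simp [e, h]
        · simp [e, h] at this ⊢
          exact this⟩
  exact (isDomain_iff_noZeroDivisors_and_nontrivial (Localization.AtPrime P)).2 ⟨⟨this.1⟩, inferInstance⟩

end prod

end Groth.Agent.AbsClosure4
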