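import Groth.Agent.Lib.AbsClosure4.Algebra
import Mathlib.AlgebraicGeometry.Normalization
import Mathlib.AlgebraicGeometry.ResidueField
import Mathlib.FieldTheory.IsAlgClosed.AlgebraicClosure

/-!
# An absolute integral closure of a scheme

For an open `U` of `S` we take the integral closure of `Γ(S, U)` in the product of algebraic
closures of the residue fields of the points of `U`. This glues to a scheme, integral over `S`.
-/

universe u

open CategoryTheory Limits AlgebraicGeometry Opposite

set_option backward.isDefEq.respectTransparency.types false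
set_option backward.isDefEq.respectTransparency false

noncomputable section

namespace Groth.Agent.AbsClosure4

variable (S : Scheme.{u})

/-- The product of the algebraic closures of the residue fields of the points of `U`. -/
abbrev Prod (U : S.Opens) : Type u := ∀ s : U, AlgebraicClosure (S.residueField s.1)

/-- Evaluation in the algebraic closures of the residue fields. -/
def ev (U : S.Opens) : Γ(S, U) →+* Prod S U :=
  RingHom.pi fun s => (algebraMap _ (AlgebraicClosure (S.residueField s.1))).comp (S.evaluation U s.1 s.2).hom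

instance (U : S.Opens) : Algebra Γ(S, U) (Prod S U) := (ev S U).toAlgebra

/-- The ring of integral elements over `U`. -/
abbrev W (U : S.Opens) : Subalgebra Γ(S, U) (Prod S U) := integralClosure Γ(S, U) (Prod S U)

variable {S}

/-- Restriction to a smaller open. -/
def restrictPi {U V : S.Opens} (h : U ≤ V) : Prod S V →+* Prod S U :=
  RingHom.pi fun s => Pi.evalRingHom (fun t : V => AlgebraicClosure (S.residueField t.1)) ⟨s.1, h s.2⟩

theorem restrictPi_ev {U V : S.Opens} (h : U ≤ V) :
    (restrictPi h).comp (ev S V) = (ev S U).comp (S.presheaf.map (homOfLE h).op).hom := by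
  refine RingHom.ext fun a => funext fun s => ?_
  change algebraMap _ _ (S.evaluation V s.1 (h s.2) a) = algebraMap _ _ (S.evaluation U s.1 s.2 _)
  congr 1
  exact congr((S.residue s.1) $((S.presheaf.germ_res_apply (homOfLE h) s.1 s.2 a).symm))

theorem restrictPi_mem {U V : S.Opens} (h : U ≤ V) (x : Prod S V) (hx : x ∈ W S V) :
    restrictPi h x ∈ W S U := by
  obtain ⟨p, hp, hpx⟩ := hx
  refine ⟨p.map (S.presheaf.map (homOfLE h).op).hom, hp.map _, ?_⟩
  rw [Polynomial.eval₂_map, RingHom.algebraMap_toAlgebra, ← restrictPi_ev h, ← Polynomial.hom_eval₂]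
  rw [RingHom.algebraMap_toAlgebra] at hpx
  rw [hpx, map_zero]

variable (S)

/-- The presheaf of integral elements. -/
def diagram : S.Opensᵒᵖ ⥤ CommRingCat where
  obj U := .of (W S U.unop)
  map {V U} i := CommRingCat.ofHom ((restrictPi i.unop.le).restrict _ _ (restrictPi_mem i.unop.le))
  map_id _ := rfl
  map_comp _ _ := rfl

/-- The structure map. -/
def diagramMap : S.presheaf ⟶ diagram S where
  app U := CommRingCat.ofHom (algebraMap Γ(S, U.unop) (W S U.unop))
  naturality {U V} i := by
    ext x
    exact Subtype.ext (congr($(restrictPi_ev i.unop.le) x)).symm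

theorem eval₂_apply {R : Type*} [CommRing R] {I : Type*} {L : I → Type*} [∀ i, CommRing (L i)]
    (p : Polynomial R) (f : R →+* ∀ i, L i) (x : ∀ i, L i) (i : I) :
    p.eval₂ f x i = p.eval₂ ((Pi.evalRingHom L i).comp f) (x i) :=
  Polynomial.hom_eval₂ p f (Pi.evalRingHom L i) x

theorem coequifibered_diagramMap :
    ((Scheme.AffineZariskiSite.toOpensFunctor S).op.whiskerLeft (diagramMap S)).Coequifibered := by
  classical
  refine Scheme.AffineZariskiSite.coequifibered_iff_forall_isLocalizationAway.mpr fun U r ↦ ?_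
  have hle : S.basicOpen r ≤ U.1 := S.basicOpen_le r
  let : Algebra (W S U.1) (W S (S.basicOpen r)) :=
    ((diagram S).map (homOfLE hle).op).hom.toAlgebra
  change IsLocalization.Away (algebraMap Γ(S, U.1) (W S U.1) r) (W S (S.basicOpen r))
  let ρ := (S.presheaf.map (homOfLE hle).op).hom
  have hcompat : ∀ a : Γ(S, U.1), algebraMap (W S U.1) (W S (S.basicOpen r)) (algebraMap Γ(S, U.1) (W S U.1) a) =
      algebraMap Γ(S, S.basicOpen r) (W S (S.basicOpen r)) (ρ a) :=
    fun a => Subtype.ext congr($(restrictPi_ev hle) a)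
  have hloc : IsLocalization.Away r Γ(S, S.basicOpen r) := U.2.isLocalization_basicOpen r
  refine ⟨?_, ?_, ?_⟩
  · rintro ⟨_, n, rfl⟩
    simp only [map_pow, hcompat]
    exact ((S.toRingedSpace.isUnit_res_basicOpen r).map _).pow n
  · intro z
    let : Algebra Γ(S, U.1) (Prod S (S.basicOpen r)) := ((ev S (S.basicOpen r)).comp ρ).toAlgebra
    have : IsScalarTower Γ(S, U.1) Γ(S, S.basicOpen r) (Prod S (S.basicOpen r)) := .of_algebraMap_eq' rfl
    obtain ⟨⟨_, n, rfl⟩, hn⟩ := IsIntegral.exists_multiple_integral_of_isLocalization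
      (Submonoid.powers r) (Rₘ := Γ(S, S.basicOpen r)) z.1 z.2
    obtain ⟨p, hp, hpz⟩ := hn
    let ext' : Prod S U.1 := fun s =>
      if h : s.1 ∈ S.basicOpen r then ((⟨r ^ n, n, rfl⟩ : Submonoid.powers r) • z.1) ⟨s.1, h⟩ else 0
    have hext : ext' ∈ W S U.1 := by
      refine ⟨Polynomial.X * p, Polynomial.monic_X.mul hp, funext fun s => ?_⟩
      rw [Polynomial.eval₂_mul, Polynomial.eval₂_X, Pi.mul_apply, Pi.zero_apply]
      by_cases h : s.1 ∈ S.basicOpen r
      · have h1 := congr_fun hpz ⟨s.1, h⟩
        rw [Pi.zero_apply, eval₂_apply, RingHom.algebraMap_toAlgebra] at h1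
        refine mul_eq_zero_of_right _ ?_
        rw [eval₂_apply, RingHom.algebraMap_toAlgebra]
        refine Eq.trans ?_ h1
        congr 1
        · ext a
          exact congr_fun congr($(restrictPi_ev hle) a) ⟨s.1, h⟩
        · exact dif_pos h
      · exact mul_eq_zero_of_left (dif_neg h) _
    refine ⟨⟨⟨ext', hext⟩, ⟨_, n, rfl⟩⟩, ?_⟩
    simp only [map_pow, hcompat]
    refine Subtype.ext (funext fun s => ?_)
    change z.1 s * ((ev S (S.basicOpen r) (ρ r)) s) ^ n = ext' ⟨s.1, hle s.2⟩
    simp only [ext', dif_pos s.2, Submonoid.smul_def, Algebra.smul_def, RingHom.algebraMap_toAlgebra, map_pow]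
    exact mul_comm _ _
  · intro x y hxy
    refine ⟨⟨algebraMap Γ(S, U.1) (W S U.1) r, 1, pow_one _⟩, Subtype.ext (funext fun s => ?_)⟩
    change (algebraMap Γ(S, U.1) (W S U.1) r).1 s * x.1 s = (algebraMap Γ(S, U.1) (W S U.1) r).1 s * y.1 s
    by_cases h : s.1 ∈ S.basicOpen r
    · exact congrArg (_ * ·) (congr_fun (congrArg Subtype.val hxy) ⟨s.1, h⟩)
    · have : (algebraMap Γ(S, U.1) (W S U.1) r).1 s = 0 := by
        change algebraMap _ _ (S.evaluation U.1 s.1 s.2 r) = 0
        rw [(S.evaluation_eq_zero_iff_notMem_basicOpen s.1 s.2 r).2 h, map_zero]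
      rw [this, zero_mul, zero_mul]

/-- The gluing datum. -/
def glueData := Scheme.AffineZariskiSite.relativeGluingData (coequifibered_diagramMap S)

instance : ((glueData S).functor ⋙ Scheme.forget).IsLocallyDirected :=
  Scheme.Cover.RelativeGluingData.instIsLocallyDirectedI₀CompFunctorForgetOfIsThin ..

/-- The absolute integral closure. -/
def absClosure : Scheme.{u} := (glueData S).glued

/-- The map to the base. -/
def toBase : absClosure S ⟶ S := (glueData S).toBase

/-- The affine charts. -/
def chart (U : S.affineOpens) : Spec (.of (W S U.1)) ⟶ absClosure S := (glueData S).cover.f U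

instance (U : S.affineOpens) : IsOpenImmersion (chart S U) := (glueData S).cover.map_prop U

@[reassoc]
theorem chart_toBase (U : S.affineOpens) :
    chart S U ≫ toBase S = Spec.map ((diagramMap S).app (.op U.1)) ≫ U.2.fromSpec :=
  colimit.ι_desc _ _

theorem exists_chart (t : absClosure S) : ∃ (U : S.affineOpens) (P : Spec (.of (W S U.1))), chart S U P = t := by
  obtain ⟨U, P, hP⟩ := (glueData S).cover.exists_eq t
  exact ⟨U, P, hP⟩

theorem toBase_preimage (U : S.affineOpens) : toBase S ⁻¹ᵁ U = (chart S U).opensRange := by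
  simpa using! (glueData S).toBase_preimage_eq_opensRange_ι U

instance : IsIntegralHom (toBase S) := by
  rw [IsZariskiLocalAtTarget.iff_of_iSup_eq_top (P := @IsIntegralHom) _ (iSup_affineOpens_eq_top _)]
  intro U
  let e := IsOpenImmersion.isoOfRangeEq (toBase S ⁻¹ᵁ U).ι (chart S U)
      (by simpa using congr($(toBase_preimage S U).1))
  rw [← MorphismProperty.cancel_left_of_respectsIso @IsIntegralHom e.inv,
    ← MorphismProperty.cancel_right_of_respectsIso @IsIntegralHom _ U.2.isoSpec.hom]
  have : ((diagramMap S).app (.op U.1)).hom.IsIntegral := by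
    change (algebraMap Γ(S, U.1) (W S U.1)).IsIntegral
    exact algebraMap_isIntegral_iff.mpr inferInstance
  convert! IsIntegralHom.SpecMap_iff.mpr this
  rw [← cancel_mono U.2.fromSpec]
  simp [IsAffineOpen.isoSpec_hom, e, chart_toBase]

instance : Surjective (toBase S) := ⟨fun s => by
  obtain ⟨U, hU, hsU, -⟩ := exists_isAffineOpen_mem_and_subset (X := S) (x := s) (U := ⊤) trivial
  let ψ : CommRingCat.of (W S U) ⟶ CommRingCat.of (AlgebraicClosure (S.residueField s)) :=
    CommRingCat.ofHom ((Pi.evalRingHom (fun t : U => AlgebraicClosure (S.residueField t.1)) ⟨s, hsU⟩).comp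
      (W S U).val.toRingHom)
  refine ⟨chart S ⟨U, hU⟩ (Spec.map ψ default), ?_⟩
  have h : (diagramMap S).app (.op U) ≫ ψ = S.presheaf.germ U s hsU ≫ S.residue s ≫
      CommRingCat.ofHom (algebraMap (S.residueField s) (AlgebraicClosure (S.residueField s))) := rfl
  rw [← Scheme.Hom.comp_apply, ← Scheme.Hom.comp_apply, chart_toBase, ← Spec.map_comp_assoc, h,
    Spec.map_comp, Spec.map_comp, Category.assoc, Category.assoc, Scheme.Hom.comp_apply]
  change (Spec.map (S.residue s) ≫ hU.fromSpecStalk hsU) _ = s
  rw [hU.fromSpecStalk_eq_fromSpecStalk]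
  exact S.fromSpecResidueField_apply s _⟩

end Groth.Agent.AbsClosure4
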